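import Cfsg.Agent.ClassicalGeometry.AutPSL.Main
import Cfsg.Agent.H799.L37.Spec

/-!
# Groups between `PSL₃(7)` and its automorphism group with the element orders of `PSL₃(7)` (helper799)
-/

set_option autoImplicit false

namespace Cfsg.Agent.H799.L37

open Matrix
open Cfsg.Agent.ClassicalGeometry.AutPSL.Root
open Cfsg.Agent.ClassicalGeometry.AutPSL.Auto
open Cfsg.Agent.ClassicalGeometry.AutPSL.Main

/-- `SL₃` elements as elements of `GL₃`. -/
def toGL (x : SL) : GL (Fin 3) (ZMod 7) := ⟨x.1, (x⁻¹).1, by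
  rw [← Matrix.SpecialLinearGroup.coe_mul, mul_inv_cancel, Matrix.SpecialLinearGroup.coe_one], by
  rw [← Matrix.SpecialLinearGroup.coe_mul, inv_mul_cancel, Matrix.SpecialLinearGroup.coe_one]⟩

theorem toGL_val (x : SL) : (toGL x : Matrix (Fin 3) (Fin 3) (ZMod 7)) = x.1 := rfl

theorem cj_toGL (x : SL) : cj (toGL x) = MulAut.conj x := by
  apply MulEquiv.ext
  intro g
  apply Subtype.ext
  rw [coe_cj, MulAut.conj_apply, Matrix.SpecialLinearGroup.coe_mul, Matrix.SpecialLinearGroup.coe_mul]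
  rfl

theorem lift_conj (x : SL) : lift (MulAut.conj x) = MulAut.conj (pr x) := by
  apply MulEquiv.ext
  intro g
  obtain ⟨g, rfl⟩ := pr_surjective g
  rw [lift_pr, MulAut.conj_apply, MulAut.conj_apply, map_mul, map_mul, map_inv]

/-- Changing the matrix by a matrix of determinant one is an inner automorphism. -/
theorem exists_inner {A B : GL (Fin 3) (ZMod 7)}
    (h : (B : Matrix (Fin 3) (Fin 3) (ZMod 7)).det = (A : Matrix (Fin 3) (Fin 3) (ZMod 7)).det) :
    ∃ x : SL, lift (cj B) = MulAut.conj (pr x) * lift (cj A) := by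
  have hdetA : (A : Matrix (Fin 3) (Fin 3) (ZMod 7)).det *
      ((A⁻¹ : GL (Fin 3) (ZMod 7)) : Matrix (Fin 3) (Fin 3) (ZMod 7)).det = 1 := by
    rw [← Matrix.det_mul, ← Units.val_mul, mul_inv_cancel, Units.val_one, Matrix.det_one]
  have hdet : ((B * A⁻¹ : GL (Fin 3) (ZMod 7)) : Matrix (Fin 3) (Fin 3) (ZMod 7)).det = 1 := by
    rw [Units.val_mul, Matrix.det_mul, h, hdetA]
  obtain ⟨x, hx⟩ : ∃ x : SL, toGL x = B * A⁻¹ := ⟨⟨(B * A⁻¹ : GL (Fin 3) (ZMod 7)), hdet⟩, Units.ext rfl⟩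
  refine ⟨x, ?_⟩
  rw [← lift_conj, ← cj_toGL, hx, ← map_mul, ← map_mul, inv_mul_cancel_right]

theorem cj_neg (A : GL (Fin 3) (ZMod 7)) : cj (-A) = cj A := by
  have h1 : cj (-1 : GL (Fin 3) (ZMod 7)) = 1 := by
    apply cj_eq_one_of_scalar (r := -1)
    rw [Units.val_neg, Units.val_one, map_neg, map_one]
  rw [← neg_one_mul, map_mul, h1, one_mul]

/-- the inverse transpose of a matrix -/
def it (B : GL (Fin 3) (ZMod 7)) : GL (Fin 3) (ZMod 7) :=
  ⟨((B⁻¹ : GL (Fin 3) (ZMod 7)) : Matrix (Fin 3) (Fin 3) (ZMod 7))ᵀ, (B : Matrix (Fin 3) (Fin 3) (ZMod 7))ᵀ, by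
    rw [← Matrix.transpose_mul, ← Units.val_mul, mul_inv_cancel, Units.val_one, Matrix.transpose_one], by
    rw [← Matrix.transpose_mul, ← Units.val_mul, inv_mul_cancel, Units.val_one, Matrix.transpose_one]⟩

theorem itr_cj (B : GL (Fin 3) (ZMod 7)) : itr * cj B * itr = cj (it B) := by
  apply MulEquiv.ext
  intro g
  apply Subtype.ext
  rw [MulAut.mul_apply, MulAut.mul_apply, coe_itr, coe_cj, ← map_inv, ← map_inv, coe_cj, coe_itr, inv_inv,
    Matrix.transpose_mul, Matrix.transpose_mul, Matrix.transpose_transpose, Matrix.mul_assoc]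
  rfl

theorem fld_one (σ : ZMod 7 ≃+* ZMod 7) : (fld σ : MulAut SL) = 1 := by
  have : σ = 1 := Subsingleton.elim _ _
  rw [this, map_one]

/-- block matrix of determinant 3 and order 48 -/
def b3 : GL (Fin 3) (ZMod 7) := ⟨!![0, 4, 0; 1, 2, 0; 0, 0, 1], !![3, 1, 0; 2, 0, 0; 0, 0, 1],
  by decide +kernel, by decide +kernel⟩

/-- block matrix of determinant 5 and order 48 -/
def b5 : GL (Fin 3) (ZMod 7) := ⟨!![0, 2, 0; 1, 2, 0; 0, 0, 1], !![6, 1, 0; 4, 0, 0; 0, 0, 1],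
  by decide +kernel, by decide +kernel⟩

/-- anti-diagonal block and a diagonal entry -/
def gr (t : (ZMod 7)ˣ) : GL (Fin 3) (ZMod 7) :=
  ⟨!![(t : ZMod 7), 0, 0; 0, 0, 1; 0, 3, 0], !![((t⁻¹ : (ZMod 7)ˣ) : ZMod 7), 0, 0; 0, 0, 5; 0, 1, 0],
  by revert t; decide +kernel, by revert t; decide +kernel⟩

theorem not_scalar {M : Matrix (Fin 3) (Fin 3) (ZMod 7)} (h : M 0 0 ≠ M 2 2 ∨ M 0 1 ≠ 0) :
    ¬ ∃ r, scalar (Fin 3) r = M := by
  rintro ⟨r, rfl⟩
  simp [scalar_apply] at h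

theorem scalar_of_lift {A : GL (Fin 3) (ZMod 7)} (h : lift (cj A) = 1) :
    ∃ r, scalar (Fin 3) r = (A : Matrix (Fin 3) (Fin 3) (ZMod 7)) :=
  (injective_aux (C := A) (σ := 1) (τ := 1) (by rw [map_one, mul_one, h, map_one])).1

/-- no automorphism given by a matrix of order 48 -/
theorem false_of_order (H : Subgroup (MulAut P)) (hS : Sp H) {A : GL (Fin 3) (ZMod 7)}
    (hA : lift (cj A) ∈ H) (h48 : A ^ 48 = 1)
    (h6 : ¬ ∃ r, scalar (Fin 3) r = ((A ^ 6 : GL (Fin 3) (ZMod 7)) : Matrix (Fin 3) (Fin 3) (ZMod 7)))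
    (h16 : ¬ ∃ r, scalar (Fin 3) r = ((A ^ 16 : GL (Fin 3) (ZMod 7)) : Matrix (Fin 3) (Fin 3) (ZMod 7))) :
    False := by
  have key : ∀ k, orderOf (⟨lift (cj A), hA⟩ : H) ∣ k → lift (cj (A ^ k)) = 1 := by
    intro k hk
    rw [map_pow, map_pow]
    exact congrArg Subtype.val (orderOf_dvd_iff_pow_eq_one.1 hk)
  have h1 : orderOf (⟨lift (cj A), hA⟩ : H) ∣ 48 := by
    rw [orderOf_dvd_iff_pow_eq_one]
    apply Subtype.ext
    change lift (cj A) ^ 48 = 1
    rw [← map_pow, ← map_pow, h48, map_one, map_one]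
  rcases hS ⟨lift (cj A), hA⟩ with h | h | h | h
  · exact h6 (scalar_of_lift (key _ h))
  · exact h6 (scalar_of_lift (key _ ((Nat.dvd_gcd h1 h).trans (by norm_num))))
  · exact h16 (scalar_of_lift (key _ h))
  · exact h6 (scalar_of_lift (key _ ((Nat.dvd_gcd h1 h).trans (by norm_num))))

theorem det_b3 : (b3 : Matrix (Fin 3) (Fin 3) (ZMod 7)).det = 3 := by decide +kernel
theorem det_b5 : (b5 : Matrix (Fin 3) (Fin 3) (ZMod 7)).det = 5 := by decide +kernel

theorem b3_false (H : Subgroup (MulAut P)) (hS : Sp H) (hA : lift (cj b3) ∈ H) : False := by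
  refine false_of_order H hS hA (Units.ext (by decide +kernel)) (not_scalar ?_) (not_scalar ?_)
  · right; decide +kernel
  · left; decide +kernel

theorem b5_false (H : Subgroup (MulAut P)) (hS : Sp H) (hA : lift (cj b5) ∈ H) : False := by
  refine false_of_order H hS hA (Units.ext (by decide +kernel)) (not_scalar ?_) (not_scalar ?_)
  · right; decide +kernel
  · left; decide +kernel

theorem det_gr : ∀ t : (ZMod 7)ˣ, (gr t : Matrix (Fin 3) (Fin 3) (ZMod 7)).det = 4 * t := by decide +kernel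

theorem gr_it : ∀ t : (ZMod 7)ˣ, ((gr t * it (gr t) : GL (Fin 3) (ZMod 7)) : Matrix (Fin 3) (Fin 3) (ZMod 7)) =
    !![1, 0, 0; 0, 5, 0; 0, 0, 3] := by decide +kernel

theorem gr_false (H : Subgroup (MulAut P)) (hS : Sp H) (t : (ZMod 7)ˣ) (hA : lift (cj (gr t) * itr) ∈ H) :
    False := by
  have h2 : lift (cj (gr t) * itr) ^ 2 = lift (cj (gr t * it (gr t))) := by
    rw [← map_pow, pow_two, map_mul cj, ← itr_cj]
    simp only [mul_assoc]
  have hC : (gr t * it (gr t)) ^ 6 = 1 := by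
    apply Units.ext
    rw [Units.val_pow_eq_pow_val, gr_it]
    decide +kernel
  have key : ∀ k, orderOf (⟨lift (cj (gr t) * itr), hA⟩ : H) ∣ 2 * k → lift (cj ((gr t * it (gr t)) ^ k)) = 1 := by
    intro k hk
    rw [map_pow, map_pow, ← h2, ← pow_mul]
    exact congrArg Subtype.val (orderOf_dvd_iff_pow_eq_one.1 hk)
  have h1 : orderOf (⟨lift (cj (gr t) * itr), hA⟩ : H) ∣ 12 := by
    rw [orderOf_dvd_iff_pow_eq_one]
    apply Subtype.ext
    change lift (cj (gr t) * itr) ^ 12 = 1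
    rw [show 12 = 2 * 6 by norm_num, pow_mul, h2, ← map_pow, ← map_pow, hC, map_one, map_one]
  have hn3 : ¬ ∃ r, scalar (Fin 3) r = (((gr t * it (gr t)) ^ 3 : GL (Fin 3) (ZMod 7)) :
      Matrix (Fin 3) (Fin 3) (ZMod 7)) := by
    apply not_scalar
    left
    rw [Units.val_pow_eq_pow_val, gr_it]
    decide +kernel
  have hn2 : ¬ ∃ r, scalar (Fin 3) r = (((gr t * it (gr t)) ^ 2 : GL (Fin 3) (ZMod 7)) :
      Matrix (Fin 3) (Fin 3) (ZMod 7)) := by
    apply not_scalar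
    left
    rw [Units.val_pow_eq_pow_val, gr_it]
    decide +kernel
  rcases hS ⟨lift (cj (gr t) * itr), hA⟩ with h | h | h | h
  · exact hn3 (scalar_of_lift (key 3 h))
  · exact hn3 (scalar_of_lift (key 3 ((Nat.dvd_gcd h1 h).trans (by norm_num))))
  · exact hn2 (scalar_of_lift (key 2 ((Nat.dvd_gcd h1 h).trans (by norm_num))))
  · exact hn3 (scalar_of_lift (key 3 ((Nat.dvd_gcd h1 h).trans (by norm_num))))

/-- **A group between `PSL₃(7)` and its automorphism group with the element orders of `PSL₃(7)`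
consists of inner automorphisms.** -/
theorem inner_of_sp (H : Subgroup (MulAut P)) (hI : ∀ x : P, MulAut.conj x ∈ H) (hS : Sp H)
    {α : MulAut P} (hα : α ∈ H) : ∃ x : P, α = MulAut.conj x := by
  rcases surj_three 7 le_rfl α with ⟨A, σ, rfl⟩ | ⟨A, σ, rfl⟩
  · rw [fld_one, mul_one] at hα ⊢
    have hd : ∀ d : ZMod 7, d ≠ 0 → d = 1 ∨ d = -1 ∨ d = 3 ∨ d = -3 ∨ d = 5 ∨ d = -5 := by decide
    have hA0 : (A : Matrix (Fin 3) (Fin 3) (ZMod 7)).det ≠ 0 :=
      ((Matrix.isUnit_iff_isUnit_det _).1 A.isUnit).ne_zero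
    have hneg : ((-A : GL (Fin 3) (ZMod 7)) : Matrix (Fin 3) (Fin 3) (ZMod 7)).det =
        - (A : Matrix (Fin 3) (Fin 3) (ZMod 7)).det := by
      rw [Units.val_neg, Matrix.det_neg, Fintype.card_fin]
      ring
    have h1 : ∀ (B : GL (Fin 3) (ZMod 7)), (B : Matrix (Fin 3) (Fin 3) (ZMod 7)).det =
        (A : Matrix (Fin 3) (Fin 3) (ZMod 7)).det ∨ (B : Matrix (Fin 3) (Fin 3) (ZMod 7)).det =
        - (A : Matrix (Fin 3) (Fin 3) (ZMod 7)).det → ∃ x : SL, lift (cj B) = MulAut.conj (pr x) * lift (cj A) := by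
      intro B hB
      rcases hB with hB | hB
      · exact exists_inner hB
      · rw [← cj_neg A]
        exact exists_inner (hB.trans hneg.symm)
    have h2 : ∀ (B : GL (Fin 3) (ZMod 7)), (B : Matrix (Fin 3) (Fin 3) (ZMod 7)).det =
        (A : Matrix (Fin 3) (Fin 3) (ZMod 7)).det ∨ (B : Matrix (Fin 3) (Fin 3) (ZMod 7)).det =
        - (A : Matrix (Fin 3) (Fin 3) (ZMod 7)).det → lift (cj B) ∈ H := by
      intro B hB
      obtain ⟨x, hx⟩ := h1 B hB
      rw [hx]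
      exact H.mul_mem (hI _) hα
    have h3 : ((1 : GL (Fin 3) (ZMod 7)) : Matrix (Fin 3) (Fin 3) (ZMod 7)).det =
        (A : Matrix (Fin 3) (Fin 3) (ZMod 7)).det ∨
        ((1 : GL (Fin 3) (ZMod 7)) : Matrix (Fin 3) (Fin 3) (ZMod 7)).det =
        - (A : Matrix (Fin 3) (Fin 3) (ZMod 7)).det := by
      rw [Units.val_one, Matrix.det_one]
      rcases hd _ hA0 with h | h | h | h | h | h
      · exact Or.inl h.symm
      · exact Or.inr (by rw [h, neg_neg])
      · exact (b3_false H hS (h2 b3 (Or.inl (by rw [det_b3, h])))).elim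
      · exact (b3_false H hS (h2 b3 (Or.inr (by rw [det_b3, h, neg_neg])))).elim
      · exact (b5_false H hS (h2 b5 (Or.inl (by rw [det_b5, h])))).elim
      · exact (b5_false H hS (h2 b5 (Or.inr (by rw [det_b5, h, neg_neg])))).elim
    obtain ⟨x, hx⟩ := h1 1 h3
    refine ⟨(pr x)⁻¹, ?_⟩
    rw [map_one, map_one] at hx
    rw [map_inv]
    exact eq_inv_of_mul_eq_one_right hx.symm
  · exfalso
    rw [fld_one, mul_one] at hα
    obtain ⟨t, ht⟩ : ∃ t : (ZMod 7)ˣ, 4 * (t : ZMod 7) = (A : Matrix (Fin 3) (Fin 3) (ZMod 7)).det := by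
      have hA0 : (A : Matrix (Fin 3) (Fin 3) (ZMod 7)).det ≠ 0 :=
        ((Matrix.isUnit_iff_isUnit_det _).1 A.isUnit).ne_zero
      have : ∀ d : ZMod 7, d ≠ 0 → ∃ t : (ZMod 7)ˣ, 4 * (t : ZMod 7) = d := by decide +kernel
      exact this _ hA0
    obtain ⟨x, hx⟩ := exists_inner (A := A) (B := gr t) (by rw [det_gr, ht])
    apply gr_false H hS t
    rw [map_mul, hx, mul_assoc, ← map_mul]
    exact H.mul_mem (hI _) hα

end Cfsg.Agent.H799.L37
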