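import Cfsg.Agent.H799.L37.Aut

/-!
# Almost simple groups with socle `PSL₃(7)` and the element orders of `PSL₃(7)` (helper799)
-/

set_option autoImplicit false

namespace Cfsg.Agent.H799.L37

theorem eq_top {H : Type*} [Group H] (hS : Sp H) (S : Subgroup H) [S.Normal] (e : S ≃* P)
    (hc : Subgroup.centralizer (S : Set H) = ⊥) : S = ⊤ := by
  let θ : H →* MulAut P := (MulAut.congr e).toMonoidHom.comp (MulAut.conjNormal (H := S))
  have hθ : ∀ (h : H) (x : P), θ h x = e (MulAut.conjNormal h (e.symm x)) := fun _ _ => rfl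
  have hinj : Function.Injective θ := by
    rw [injective_iff_map_eq_one]
    intro h hh
    have h1 : h ∈ Subgroup.centralizer (S : Set H) := by
      rw [Subgroup.mem_centralizer_iff]
      intro s hs
      have h2 := hθ h (e ⟨s, hs⟩)
      rw [hh, MulAut.one_apply, MulEquiv.symm_apply_apply] at h2
      have h3 := congrArg Subtype.val (e.injective h2)
      rw [MulAut.conjNormal_apply] at h3
      change s = h * s * h⁻¹ at h3
      rw [eq_mul_inv_iff_mul_eq] at h3
      exact h3
    rw [hc] at h1
    exact Subgroup.mem_bot.1 h1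
  have hin : ∀ x : P, θ (e.symm x : S) = MulAut.conj x := by
    intro x
    apply MulEquiv.ext
    intro y
    rw [hθ, MulAut.conj_apply]
    have h1 : MulAut.conjNormal ((e.symm x : S) : H) (e.symm y) = e.symm x * e.symm y * (e.symm x)⁻¹ := by
      apply Subtype.ext
      rw [MulAut.conjNormal_apply]
      rfl
    rw [h1, map_mul, map_mul, map_inv, MulEquiv.apply_symm_apply, MulEquiv.apply_symm_apply]
  have hΓ : Sp θ.range := hS.of_surjective θ.rangeRestrict θ.rangeRestrict_surjective
  rw [eq_top_iff]
  intro h _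
  obtain ⟨x, hx⟩ := inner_of_sp θ.range (fun x => ⟨_, hin x⟩) hΓ (α := θ h) ⟨h, rfl⟩
  rw [← hin] at hx
  rw [hinj hx]
  exact (e.symm x).2

end Cfsg.Agent.H799.L37
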