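import Cfsg.Agent.KantorSeitz.PSUTorus

/-!
# An element of order 9 in `PSU₃(8)` (helper799)
-/

set_option autoImplicit false

namespace Cfsg.Agent.H799.L37

open Matrix Cfsg Cfsg.Agent.KantorSeitz.PSUTorus

variable {F : Type*} [Field F]

/-- diagonal matrices -/
def d3 (a b c : F) : Matrix (Fin 3) (Fin 3) F := !![a, 0, 0; 0, b, 0; 0, 0, c]

theorem d3_mul (a b c a' b' c' : F) : d3 a b c * d3 a' b' c' = d3 (a * a') (b * b') (c * c') := by
  ext i j
  fin_cases i <;> fin_cases j <;> simp [d3, Matrix.mul_apply, Fin.sum_univ_three]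

theorem d3_one : d3 (1 : F) 1 1 = 1 := by
  ext i j
  fin_cases i <;> fin_cases j <;> simp [d3]

theorem d3_pow (a b c : F) (k : ℕ) : d3 a b c ^ k = d3 (a ^ k) (b ^ k) (c ^ k) := by
  induction k with
  | zero => simp [d3_one]
  | succ k ih => rw [pow_succ, ih, d3_mul, pow_succ, pow_succ, pow_succ]

theorem det_d3 (a b c : F) : (d3 a b c).det = a * b * c := by
  rw [Matrix.det_fin_three]
  simp [d3]

theorem d3_mem (q : ℕ) {a b c : F} (ha : a * a ^ q = 1) (hb : b * b ^ q = 1) (hc : c * c ^ q = 1)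
    (h : (d3 a b c).det = 1) : (⟨d3 a b c, h⟩ : SpecialLinearGroup (Fin 3) F) ∈ SU 3 F q := by
  intro u v
  change hermForm 3 F q (d3 a b c *ᵥ u) (d3 a b c *ᵥ v) = hermForm 3 F q u v
  rw [herm_three, herm_three]
  simp only [d3, Matrix.mulVec, dotProduct, Fin.sum_univ_three]
  simp only [Matrix.of_apply, Matrix.cons_val', Matrix.cons_val_zero, Matrix.cons_val_one,
    Matrix.cons_val_fin_one, Matrix.cons_val]
  simp only [mul_pow, zero_mul, add_zero, zero_add]
  linear_combination (u 0 * v 0 ^ q) * ha + (u 1 * v 1 ^ q) * hb + (u 2 * v 2 ^ q) * hc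

theorem exists_nine [Fintype F] (hF : Fintype.card F = 8 ^ 2) : ∃ g : PSU 3 F 8, orderOf g = 9 := by
  classical
  have hchar : CharP F 2 := by
    obtain ⟨p, hp⟩ := CharP.exists F
    have hpp : p.Prime := (CharP.char_is_prime_or_zero F p).resolve_right (CharP.char_ne_zero_of_finite F p)
    have := Fact.mk hpp
    obtain ⟨n, -, hn⟩ := FiniteField.card F p
    have h1 : p ∣ 8 ^ 2 := by
      rw [← hF, hn]
      exact dvd_pow_self p n.ne_zero
    have h2 : p ∣ 2 := by
      have h3 : p ∣ 2 ^ 6 := by simpa using h1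
      exact hpp.dvd_of_dvd_pow h3
    rw [(Nat.prime_dvd_prime_iff_eq hpp Nat.prime_two).1 h2] at hp
    exact hp
  obtain ⟨g, hg⟩ := IsCyclic.exists_generator (α := Fˣ)
  have hgo : orderOf g = 63 := by
    rw [orderOf_eq_card_of_forall_mem_zpowers hg, Nat.card_units, Nat.card_eq_fintype_card, hF]
    norm_num
  have hz : orderOf (g ^ 7) = 9 := by
    rw [orderOf_pow_of_dvd (by norm_num) (by rw [hgo]; norm_num), hgo]
  set z := g ^ 7 with hzdef
  have hz9 : (z : F) ^ 9 = 1 := by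
    rw [← Units.val_pow_eq_pow_val, ← hz, pow_orderOf_eq_one, Units.val_one]
  have hzi9 : ((z⁻¹ : Fˣ) : F) ^ 9 = 1 := by
    rw [← Units.val_pow_eq_pow_val, inv_pow, ← hz, pow_orderOf_eq_one, inv_one, Units.val_one]
  have hdet : (d3 (z : F) ((z⁻¹ : Fˣ) : F) 1).det = 1 := by
    rw [det_d3, mul_one, ← Units.val_mul, mul_inv_cancel, Units.val_one]
  have hmem : (⟨d3 (z : F) ((z⁻¹ : Fˣ) : F) 1, hdet⟩ : SpecialLinearGroup (Fin 3) F) ∈ SU 3 F 8 :=
    d3_mem 8 (by rw [← pow_succ', hz9]) (by rw [← pow_succ', hzi9]) (by rw [one_pow, one_mul]) hdet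
  set A : SU 3 F 8 := ⟨_, hmem⟩ with hA
  have hApow : ∀ k : ℕ, (A ^ k).1.1 = d3 ((z : F) ^ k) (((z⁻¹ : Fˣ) : F) ^ k) (1 ^ k) := by
    intro k
    induction k with
    | zero =>
      rw [pow_zero, pow_zero, pow_zero, pow_zero, d3_one]
      rfl
    | succ k ih =>
      rw [pow_succ]
      change (A ^ k).1.1 * d3 (z : F) ((z⁻¹ : Fˣ) : F) 1 = _
      rw [ih, d3_mul, pow_succ, pow_succ, pow_succ]
  have h9 : A ^ 9 = 1 := by
    apply Subtype.ext
    apply Subtype.ext
    rw [hApow, hz9, hzi9, one_pow, d3_one]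
    rfl
  have h3 : A ^ 3 ∉ Subgroup.center (SU 3 F 8) := by
    intro h
    have h1 := Subgroup.mem_center_iff.1 h (swS 8)
    have h2 : sw * (A ^ 3).1.1 = (A ^ 3).1.1 * sw :=
      congrArg (fun x : SU 3 F 8 => x.1.1) h1
    rw [hApow] at h2
    have h4 := congrFun (congrFun h2 0) 2
    simp [sw, d3, Matrix.mul_apply, Fin.sum_univ_three] at h4
    have h5 : z ^ 3 = 1 := Units.ext (by rw [Units.val_pow_eq_pow_val, ← h4, Units.val_one])
    have h6 := orderOf_dvd_of_pow_eq_one h5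
    rw [hz] at h6
    exact absurd h6 (by norm_num)
  refine ⟨QuotientGroup.mk' _ A, ?_⟩
  have h1 : ¬ (QuotientGroup.mk' (Subgroup.center (SU 3 F 8)) A) ^ 3 ^ 1 = 1 := by
    rw [← map_pow, pow_one]
    intro h
    exact h3 ((QuotientGroup.eq_one_iff _).1 h)
  have h2 : (QuotientGroup.mk' (Subgroup.center (SU 3 F 8)) A) ^ 3 ^ (1 + 1) = 1 := by
    rw [← map_pow]
    exact (congrArg (QuotientGroup.mk' (Subgroup.center (SU 3 F 8))) h9).trans (map_one _)
  have := Fact.mk Nat.prime_three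
  exact orderOf_eq_prime_pow h1 h2

end Cfsg.Agent.H799.L37
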